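import Groth.Agent.L23.TwDesc.Section.Split
import Groth.Agent.L23.RelGen.FibCat

/-!
# The twisted line bundle over an object with a chosen lift
-/

universe u

open CategoryTheory CategoryTheory.Limits AlgebraicGeometry Opposite TopologicalSpace
open scoped TensorProduct

set_option backward.isDefEq.respectTransparency false
set_option backward.isDefEq.respectTransparency.types false
set_option linter.style.haveILetI false
set_option linter.unusedSectionVars false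
set_option linter.unusedVariables false

noncomputable section

namespace Groth.L23.TwDesc

open StMod
open Groth.L23.RelGen
open Groth.L23.RelGen.PB (fnMap_comp_apply)

variable {S : Scheme.{u}} {𝒳 𝒴 : AlgSt.Cat S} (π : 𝒳 ⥤ᵇ 𝒴) (z : 𝒳.obj)

/-- An affine object with a morphism to the chosen lift. -/
structure ZPt where
  /-- the object -/
  y : 𝒳.obj
  /-- the morphism -/
  k : y ⟶ z
  aff : IsAffine (sch 𝒳 y)

variable {π z}

/-- The object of the category over the image attached to a point. -/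
abbrev ZPt.pt (j : ZPt z) : (fibCat π (π.obj z)).obj := CostructuredArrow.mk (π.map j.k)

variable {A : (Over S)ᵒᵖ ⥤ GrpCat.{u}} (ι : TwSh.BandHom 𝒳 A)

/-- The band element of a morphism between points. -/
def IsBandOf {j' j : ZPt z} (β : (j'.pt : (fibCat π (π.obj z)).obj) ⟶ j.pt)
    (a : A.obj (op (𝒳.p.obj j'.y))) : Prop :=
  (ι.hom j'.y a).hom.1 ≫ j'.k = β.left ≫ j.k

variable (h𝒳 : FibCat.IsFibGrpd 𝒳.p) (h𝒴 : FibCat.IsFibGrpd 𝒴.p) {J : GrothendieckTopology (Over S)}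
  (hπ : TwSh.IsBandedGerbe J π ι) (χ : A ⟶ TwSh.GmPsh S)

include h𝒳 h𝒴 hπ in
theorem exists_isBandOf {j' j : ZPt z} (β : (j'.pt : (fibCat π (π.obj z)).obj) ⟶ j.pt) :
    ∃ a, IsBandOf ι β a := by
  refine exists_band_factor π h𝒳 h𝒴 ι (fun x => (hπ.2 x).2.ge) j'.k (β.left ≫ j.k) ?_
  rw [π.toFunctor.map_comp]
  exact (CostructuredArrow.w β).symm

include h𝒳 hπ in
theorem isBandOf_unique {j' j : ZPt z} {β : (j'.pt : (fibCat π (π.obj z)).obj) ⟶ j.pt}
    {a a' : A.obj (op (𝒳.p.obj j'.y))} (h : IsBandOf ι β a) (h' : IsBandOf ι β a') : a = a' := by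
  refine (hπ.2 j'.y).1 (Aut.ext (Functor.Fiber.hom_ext ?_))
  exact (RelGen.existsUnique_factor h𝒳 (z := j'.y) ((show j'.y ⟶ j.y from β.left) ≫ j.k) j'.k (𝟙 _) (by
    rw [show (show j'.y ⟶ j.y from β.left) ≫ j.k = _ from h.symm, Functor.map_comp, TwSh.map_autO_hom])).unique ⟨TwSh.map_autO_hom _ _, h⟩ ⟨TwSh.map_autO_hom _ _, h'⟩

theorem isBandOf_id (j : ZPt z) : IsBandOf ι (𝟙 (j.pt : (fibCat π (π.obj z)).obj)) (1 : A.obj (op (𝒳.p.obj j.y))) := by
  show (ι.hom j.y 1).hom.1 ≫ j.k = _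
  rw [map_one]
  rfl

theorem band_comp {y'' y' y : 𝒳.obj} (u : y'' ⟶ y') (v : y' ⟶ y) (k'' : y'' ⟶ z) (k' : y' ⟶ z) (k : y ⟶ z)
    (a : A.obj (op (𝒳.p.obj y''))) (b : A.obj (op (𝒳.p.obj y'))) (h : (ι.hom y'' a).hom.1 ≫ k'' = u ≫ k')
    (h' : (ι.hom y' b).hom.1 ≫ k' = v ≫ k) :
    (ι.hom y'' (a * A.map (𝒳.p.map u).op b)).hom.1 ≫ k'' = (u ≫ v) ≫ k := by
  rw [map_mul]
  change ((ι.hom y'' (A.map (𝒳.p.map u).op b)).hom.1 ≫ (ι.hom y'' a).hom.1) ≫ k'' = _
  rw [Category.assoc, h, ← Category.assoc, ι.natural, Category.assoc, h', Category.assoc]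

theorem isBandOf_comp {j'' j' j : ZPt z} {β : (j''.pt : (fibCat π (π.obj z)).obj) ⟶ j'.pt}
    {γ : (j'.pt : (fibCat π (π.obj z)).obj) ⟶ j.pt} {a b} (h : IsBandOf ι β a) (h' : IsBandOf ι γ b) :
    IsBandOf ι (β ≫ γ) (a * A.map (𝒳.p.map (show j''.y ⟶ j'.y from β.left)).op b) :=
  band_comp ι (show j''.y ⟶ j'.y from β.left) (show j'.y ⟶ j.y from γ.left) j''.k j'.k j.k a b h h'

theorem bmap_left {q' q : (fibCat π (π.obj z)).obj} (β : q' ⟶ q) :
    bmap (fibCat π (π.obj z)) β = bmap 𝒳 β.left := rfl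

/-- The functions on a point as a module over themselves. -/
abbrev lineMod (j : ZPt z) : ModuleCat.{u} (Fn (j.pt : (fibCat π (π.obj z)).obj)) :=
  ModuleCat.of _ (Fn (j.pt : (fibCat π (π.obj z)).obj))

/-- The scalar of a band element on a point. -/
def lineScal (j : ZPt z) (a : A.obj (op (𝒳.p.obj j.y))) : (Fn (j.pt : (fibCat π (π.obj z)).obj))ˣ :=
  scal χ j.y a

theorem lineScal_one (j : ZPt z) : lineScal (π := π) χ j 1 = 1 := scal_one χ j.y

theorem lineScal_comp {j'' j' : ZPt z} (β : (j''.pt : (fibCat π (π.obj z)).obj) ⟶ j'.pt)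
    (a : A.obj (op (𝒳.p.obj j''.y))) (b : A.obj (op (𝒳.p.obj j'.y))) :
    (lineScal (π := π) χ j'' (a * A.map (𝒳.p.map (show j''.y ⟶ j'.y from β.left)).op b)).val =
      fnMap β (lineScal (π := π) χ j' b).val * (lineScal (π := π) χ j'' a).val := by
  show (scal χ j''.y (a * A.map (𝒳.p.map (show j''.y ⟶ j'.y from β.left)).op b)).val = _
  rw [scal_mul, Units.val_mul, scal_map]
  rfl

/-- The restriction of the line along a morphism with a band element. -/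
def lineVal {j' j : ZPt z} (β : (j'.pt : (fibCat π (π.obj z)).obj) ⟶ j.pt) (a : A.obj (op (𝒳.p.obj j'.y)))
    (m : Fn (j.pt : (fibCat π (π.obj z)).obj)) : Fn (j'.pt : (fibCat π (π.obj z)).obj) :=
  (lineScal (π := π) χ j' a).val * fnMap β m

include h𝒳 h𝒴 hπ in
theorem exists_lineT {j' j : ZPt z} (β : (j'.pt : (fibCat π (π.obj z)).obj) ⟶ j.pt) :
    ∃ T : lineMod (π := π) j →ₛₗ[fnMap β] lineMod (π := π) j',
      ∀ a, IsBandOf ι β a → ∀ m, T m = lineVal χ β a m := by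
  obtain ⟨a, h⟩ := exists_isBandOf ι h𝒳 h𝒴 hπ β
  refine ⟨{ toFun := lineVal χ β a, map_add' := fun m m' => ?_, map_smul' := fun r m => ?_ }, fun a' h' m => ?_⟩
  · unfold lineVal
    exact (congrArg _ (map_add (fnMap β) m m')).trans (mul_add _ _ _)
  · unfold lineVal
    show _ * fnMap β (r * m) = fnMap β r * (_ * fnMap β m)
    rw [map_mul]
    exact mul_left_comm _ _ _
  · obtain rfl := isBandOf_unique ι h𝒳 hπ h h'
    rfl

/-- The restriction of the line. -/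
def lineT {j' j : ZPt z} (β : (j'.pt : (fibCat π (π.obj z)).obj) ⟶ j.pt) :
    lineMod (π := π) j →ₛₗ[fnMap β] lineMod (π := π) j' :=
  (exists_lineT ι h𝒳 h𝒴 hπ χ β).choose

theorem lineT_eq {j' j : ZPt z} {β : (j'.pt : (fibCat π (π.obj z)).obj) ⟶ j.pt} {a}
    (h : IsBandOf ι β a) (m : lineMod (π := π) j) : lineT ι h𝒳 h𝒴 hπ χ β m = lineVal χ β a m :=
  (exists_lineT ι h𝒳 h𝒴 hπ χ β).choose_spec a h m

theorem lineT_id (j : ZPt z) (m : lineMod (π := π) j) :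
    lineT ι h𝒳 h𝒴 hπ χ (𝟙 (j.pt : (fibCat π (π.obj z)).obj)) m = m := by
  refine (lineT_eq ι h𝒳 h𝒴 hπ χ (isBandOf_id ι j) m).trans ?_
  rw [lineVal, lineScal_one]
  refine (one_mul _).trans ?_
  show fnMap (𝟙 (j.pt : (fibCat π (π.obj z)).obj)) m = m
  rw [fnMap, bmap_id, Scheme.Hom.id_appTop]
  rfl

theorem lineT_comp {j'' j' j : ZPt z} (β : (j''.pt : (fibCat π (π.obj z)).obj) ⟶ j'.pt)
    (γ : (j'.pt : (fibCat π (π.obj z)).obj) ⟶ j.pt) (m : lineMod (π := π) j) :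
    lineT ι h𝒳 h𝒴 hπ χ β (lineT ι h𝒳 h𝒴 hπ χ γ m) = lineT ι h𝒳 h𝒴 hπ χ (β ≫ γ) m := by
  obtain ⟨a, h⟩ := exists_isBandOf ι h𝒳 h𝒴 hπ β
  obtain ⟨b, h'⟩ := exists_isBandOf ι h𝒳 h𝒴 hπ γ
  rw [lineT_eq ι h𝒳 h𝒴 hπ χ h, lineT_eq ι h𝒳 h𝒴 hπ χ h', lineT_eq ι h𝒳 h𝒴 hπ χ (isBandOf_comp ι h h')]
  unfold lineVal
  rw [lineScal_comp, map_mul, fnMap_comp_apply β γ m, ← mul_assoc, mul_comm (lineScal (π := π) χ j'' a).val]

theorem exists_bc_lineT {j' j : ZPt z} (β : (j'.pt : (fibCat π (π.obj z)).obj) ⟶ j.pt) :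
    letI := (fnMap β).toAlgebra
    ∃ E : Fn (j'.pt : (fibCat π (π.obj z)).obj) ⊗[Fn (j.pt : (fibCat π (π.obj z)).obj)] lineMod (π := π) j ≃+
      lineMod (π := π) j', ∀ r m, E (r ⊗ₜ m) = r • lineT ι h𝒳 h𝒴 hπ χ β m := by
  obtain ⟨a, h⟩ := exists_isBandOf ι h𝒳 h𝒴 hπ β
  letI := (fnMap β).toAlgebra
  let E := (TensorProduct.rid (Fn (j.pt : (fibCat π (π.obj z)).obj))
    (Fn (j'.pt : (fibCat π (π.obj z)).obj))).toAddEquiv
  let c : Fn (j'.pt : (fibCat π (π.obj z)).obj) ≃+ lineMod (π := π) j' :=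
    { toFun := fun t => ((lineScal (π := π) χ j' a).val * t : Fn (j'.pt : (fibCat π (π.obj z)).obj))
      invFun := fun t => ((lineScal (π := π) χ j' a)⁻¹.val * t : Fn (j'.pt : (fibCat π (π.obj z)).obj))
      left_inv := fun t => by
        show (lineScal (π := π) χ j' a)⁻¹.val * ((lineScal (π := π) χ j' a).val * t) = t
        exact Units.inv_mul_cancel_left _ _
      right_inv := fun t => by
        show (lineScal (π := π) χ j' a).val * ((lineScal (π := π) χ j' a)⁻¹.val * t) = t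
        exact Units.mul_inv_cancel_left _ _
      map_add' := fun t t' => mul_add (lineScal (π := π) χ j' a).val t t' }
  refine ⟨E.trans c, fun r m => ?_⟩
  rw [lineT_eq ι h𝒳 h𝒴 hπ χ h]
  show (lineScal (π := π) χ j' a).val * (TensorProduct.rid (Fn (j.pt : (fibCat π (π.obj z)).obj))
    (Fn (j'.pt : (fibCat π (π.obj z)).obj)) (r ⊗ₜ m)) = r * ((lineScal (π := π) χ j' a).val * fnMap β m)
  rw [TensorProduct.rid_tmul, Algebra.smul_def]
  show (lineScal (π := π) χ j' a).val * (fnMap β m * r) = _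
  rw [mul_comm (fnMap β m) r]
  exact mul_left_comm _ _ _

/-- The pieces of the category over the image. -/
def linePieces (hhom : Gerb.LocSurjHom (QuotSh.J Scheme.fppfPrecoverage S) π) :
    Pieces.{u + 1} (fibCat π (π.obj z)) where
  fib := isFibGrpd_fibCat h𝒳 π (π.obj z)
  J := ZPt z
  o j := j.pt
  aff j := j.aff
  lift q hq j t := by
    refine ⟨⟨q.left, t.left ≫ j.k, hq⟩, ⟨CostructuredArrow.isoMk (Iso.refl q.left) ?_⟩⟩
    show π.map (𝟙 q.left) ≫ q.hom = π.map (t.left ≫ j.k)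
    rw [π.toFunctor.map_id, π.toFunctor.map_comp]
    exact (Category.id_comp _).trans (CostructuredArrow.w t).symm
  loc q hq := by
    obtain ⟨𝒵, hfin, h⟩ := exists_homLift π hhom h𝒳 h𝒴 hq q.hom
    choose k hk using h
    refine ⟨𝒵.ι, hfin, fun l => ⟨𝒵.obj l, k l, 𝒵.affine l⟩,
      fun l => CostructuredArrow.homMk (𝒵.map l) (hk l).symm, 𝒵.cov⟩

/-- The datum of the twisted line. -/
def lineDatum (hhom : Gerb.LocSurjHom (QuotSh.J Scheme.fppfPrecoverage S) π) :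
    PDatum.{u + 1} (fibCat π (π.obj z)) :=
  { linePieces h𝒳 h𝒴 hhom with
    M := fun j => lineMod (π := π) j
    T := fun {j' j} β => lineT ι h𝒳 h𝒴 hπ χ β
    T_id := fun j m => lineT_id ι h𝒳 h𝒴 hπ χ j m
    T_comp := fun {j'' j' j} β γ m => lineT_comp ι h𝒳 h𝒴 hπ χ β γ m
    bc := fun {j' j} β => exists_bc_lineT ι h𝒳 h𝒴 hπ χ β }

end Groth.L23.TwDesc
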