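import Groth.Agent.L23.TwDesc.Twist.Line
import Groth.Agent.L23.TwDesc.QCoh
import Groth.Agent.L23.RelGen.FamQCoh
import Groth.Agent.L19.PullChart
import Groth.Agent.L16.CohClosedPush

/-!
# Properties of the twisted line
-/

universe u

open CategoryTheory CategoryTheory.Limits AlgebraicGeometry Opposite TopologicalSpace
open scoped TensorProduct

set_option backward.isDefEq.respectTransparency false
set_option backward.isDefEq.respectTransparency.types false
set_option linter.style.haveILetI false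
set_option linter.unusedSectionVars false
set_option linter.unusedVariables false

noncomputable section

namespace Groth.L23.TwDesc

open StMod
open Groth.L23.RelGen
open Groth.L23.RelGen.PB (fnMap_comp_apply flat_fnMap)

variable {S : Scheme.{u}}

/-- Finite modules of sections on affine objects give coherence everywhere. -/
theorem isFT_of_affine {𝒱 : AlgSt.Cat S} (h : FibCat.IsFibGrpd 𝒱.p) (L : QCoh 𝒱)
    (hfin : ∀ q : 𝒱.obj, IsAffine (sch 𝒱 q) → Module.Finite (Fn q) (Sec L.obj q)) (x : 𝒱.obj) :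
    Coh.IsCoh (L.obj.obj x) := by
  haveI : Coh.IsQCoh (L.obj.obj x) := L.property.2 x
  refine Groth.L16.CohClosedPush.isCoh_of_finite_sections _ fun t => ?_
  obtain ⟨V, hV, htV, -⟩ := exists_isAffineOpen_mem_and_subset (x := t) (U := (⊤ : (sch 𝒱 x).Opens)) trivial
  refine ⟨V, htV, hV, ?_⟩
  obtain ⟨y, r, hi, hr, ha⟩ := exists_restrict h x V
  haveI := hi
  haveI := hfin y (ha hV)
  obtain ⟨e, hb⟩ := resTo_bijective L.property.1 r hr
  letI := ((bmap 𝒱 r).appLE V ⊤ e).hom.toAlgebra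
  letI : Module Γ(sch 𝒱 x, V) (Sec L.obj y) := Module.compHom _ ((bmap 𝒱 r).appLE V ⊤ e).hom
  haveI : IsScalarTower Γ(sch 𝒱 x, V) (Fn y) (Sec L.obj y) := IsScalarTower.of_algebraMap_smul fun _ _ => rfl
  haveI : Module.Finite Γ(sch 𝒱 x, V) (Fn y) :=
    Module.Finite.of_surjective (Algebra.linearMap Γ(sch 𝒱 x, V) (Fn y)) (appLE_bijective_of_range _ hr e).2
  haveI : Module.Finite Γ(sch 𝒱 x, V) (Sec L.obj y) := Module.Finite.trans (Fn y) _
  let f : Γ(L.obj.obj x, V) →ₗ[Γ(sch 𝒱 x, V)] Sec L.obj y :=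
    { toFun := resTo L.obj r e, map_add' := map_add _, map_smul' := fun a m => resTo_smul r e a m }
  exact Module.Finite.equiv (LinearEquiv.ofBijective f hb).symm

/-- Finiteness transported along a base change equivalence. -/
theorem finite_of_tensor_equiv {R B : Type u} [CommRing R] [CommRing B] [Algebra R B] {N P : Type u}
    [AddCommGroup N] [Module R N] [AddCommGroup P] [Module B P] [Module.Finite B P] (f : N → P)
    (E : B ⊗[R] N ≃+ P) (hE : ∀ r m, E (r ⊗ₜ m) = r • f m) : Module.Finite B (B ⊗[R] N) := by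
  let E' : B ⊗[R] N ≃ₗ[B] P :=
    { E with
      map_smul' := fun c t => by
        show E (c • t) = c • E t
        induction t using TensorProduct.induction_on with
        | zero => rw [smul_zero, map_zero, smul_zero]
        | tmul r m => rw [TensorProduct.smul_tmul', hE, hE, smul_eq_mul, mul_smul]
        | add x y hx hy => rw [smul_add, map_add, map_add, hx, hy, smul_add] }
  exact Module.Finite.equiv E'.symm

variable {𝒳 𝒴 : AlgSt.Cat S} {π : 𝒳 ⥤ᵇ 𝒴} {z : 𝒳.obj} {A : (Over S)ᵒᵖ ⥤ GrpCat.{u}} (ι : TwSh.BandHom 𝒳 A)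
  (h𝒳 : FibCat.IsFibGrpd 𝒳.p) (h𝒴 : FibCat.IsFibGrpd 𝒴.p) {J : GrothendieckTopology (Over S)}
  (hπ : TwSh.IsBandedGerbe J π ι) (χ : A ⟶ TwSh.GmPsh S)
  (hhom : Gerb.LocSurjHom (QuotSh.J Scheme.fppfPrecoverage S) π)

/-- The band element of an object over the image, as an automorphism over the image. -/
def bandFib (q : (fibCat π (π.obj z)).obj) (a : A.obj (op (𝒳.p.obj q.left))) : q ⟶ q :=
  CostructuredArrow.homMk (ι.hom q.left a).hom.1 (by
    rw [TwSh.IsBandedGerbe.map_hom_eq_id π hπ]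
    exact Category.id_comp _)

theorem bandFib_left (q : (fibCat π (π.obj z)).obj) (a : A.obj (op (𝒳.p.obj q.left))) :
    (bandFib ι hπ q a).left = (ι.hom q.left a).hom.1 := rfl

set_option maxHeartbeats 800000 in
/-- The band acts on the twisted line by the character. -/
theorem mapTop_line_band {q : (fibCat π (π.obj z)).obj} (hq : IsAffine (sch (fibCat π (π.obj z)) q))
    (a : A.obj (op (𝒳.p.obj q.left))) (m : Sec (lineDatum ι h𝒳 h𝒴 hπ χ hhom).toMod q) :
    (lineDatum ι h𝒳 h𝒴 hπ χ hhom).toMod.mapTop (bandFib ι hπ q a) m =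
      (show Fn q from (scal χ q.left a).val) • m := by
  let D := lineDatum (z := z) ι h𝒳 h𝒴 hπ χ hhom
  obtain ⟨𝒰, -⟩ := exists_pcov (P := D.toPieces) hq
  suffices key : ∀ (j : D.J) (β : D.o j ⟶ q), D.evG β (D.toMod.mapTop (bandFib ι hπ q a) m) =
      D.evG β ((show Fn q from (scal χ q.left a).val) • m) from
    PDatum.evG_injective hq 𝒰 fun l => key (𝒰.j l) (𝒰.map l)
  intro j β
  let a' : A.obj (op (𝒳.p.obj j.y)) := A.map (𝒳.p.map (show j.y ⟶ q.left from β.left)).op a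
  let γ : D.o j ⟶ D.o j := bandFib ι hπ (D.o j) a'
  have hγ : γ ≫ β = β ≫ bandFib ι hπ q a :=
    CostructuredArrow.hom_ext _ _ (ι.natural (show j.y ⟶ q.left from β.left) a)
  have hb : IsBandOf ι (j' := j) (j := j) γ a' := rfl
  rw [PDatum.evG_mapTop, ← PDatum.evG_map γ hγ m, PDatum.evG_smul]
  refine (lineT_eq ι h𝒳 h𝒴 hπ χ hb (D.evG β m)).trans ?_
  have hid : ∀ x : Fn (D.o j), fnMap γ x = x := fun x => by
    have hbm : bmap (fibCat π (π.obj z)) γ = 𝟙 _ := TwSh.bmap_autO (𝒳 := 𝒳) j.y (ι.hom j.y a')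
    rw [fnMap, hbm, Scheme.Hom.id_appTop]
    rfl
  have hs : (lineScal (π := π) χ j a').val = fnMap β (show Fn q from (scal χ q.left a).val) :=
    scal_map χ (show j.y ⟶ q.left from β.left) a
  show lineVal χ γ a' (D.evG β m) = _
  exact (congrArg ((lineScal (π := π) χ j a').val * ·) (hid (D.evG β m))).trans
    (congrArg (fun t : Fn (j.pt : (fibCat π (π.obj z)).obj) =>
      t * (show Fn (j.pt : (fibCat π (π.obj z)).obj) from D.evG β m)) hs)

/-- The twisted line has finite sections over affine objects. -/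
theorem finite_line {q : (fibCat π (π.obj z)).obj} (hq : IsAffine (sch (fibCat π (π.obj z)) q)) :
    Module.Finite (Fn q) (Sec (lineDatum ι h𝒳 h𝒴 hπ χ hhom).toMod q) := by
  let D := lineDatum (z := z) ι h𝒳 h𝒴 hπ χ hhom
  obtain ⟨𝒰, hfin⟩ := exists_pcov (P := D.toPieces) hq
  haveI := hfin
  haveI := hq
  haveI := fun l => D.aff (𝒰.j l)
  letI := fun l => (fnMap (𝒰.map l)).toAlgebra
  haveI := fun l => Groth.L19.QCohFpqc.IsCov.flat_appTop (fun l => bmap _ (𝒰.map l)) 𝒰.cov l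
  haveI : ∀ l, Module.Finite (Fn (D.o (𝒰.j l))) (Fn (D.o (𝒰.j l)) ⊗[Fn q] Sec D.toMod q) := fun l => by
    obtain ⟨E, hE⟩ := PDatum.exists_flatEquiv (D := D) hq (𝒰.map l) (𝒰.cov.flat l)
    haveI : Module.Finite (Fn (D.o (𝒰.j l))) (D.M (𝒰.j l)) :=
      inferInstanceAs (Module.Finite (Fn (D.o (𝒰.j l))) (Fn (D.o (𝒰.j l))))
    exact finite_of_tensor_equiv (D.evG (𝒰.map l)) E hE
  exact Groth.L19.PullChart.finite_of_jointlySurjective (fun l => Fn (D.o (𝒰.j l)))
    (fun p => by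
      obtain ⟨l, hl⟩ := Groth.L19.QCohFpqc.IsCov.prime_lift (fun l => bmap _ (𝒰.map l)) 𝒰.cov p
      exact ⟨l, hl⟩) (Sec D.toMod q)

/-- The twisted line is nonzero over the chosen lift. -/
theorem nontrivial_line (hz : IsAffine (sch 𝒳 z)) (hne : Nonempty (sch 𝒳 z)) :
    Nontrivial (Sec (lineDatum ι h𝒳 h𝒴 hπ χ hhom).toMod
      ((⟨z, 𝟙 z, hz⟩ : ZPt z).pt : (fibCat π (π.obj z)).obj)) := by
  let D := lineDatum (z := z) ι h𝒳 h𝒴 hπ χ hhom
  haveI := hne
  obtain ⟨t⟩ := hne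
  haveI : Nonempty (⊤ : (sch 𝒳 z).Opens) := ⟨⟨t, trivial⟩⟩
  haveI h₁ : Nontrivial (Fn z) := (inferInstance : Nontrivial Γ(sch 𝒳 z, ⊤))
  haveI : Nontrivial (D.M (⟨z, 𝟙 z, hz⟩ : ZPt z)) := h₁
  exact (PDatum.evG_id_bijective (D := D) (⟨z, 𝟙 z, hz⟩ : ZPt z)).2.nontrivial

end Groth.L23.TwDesc
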