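import Groth.Agent.L23.TwDesc.Gerbe.Lifts
import Mathlib.AlgebraicGeometry.Morphisms.Finite
import Mathlib.AlgebraicGeometry.Morphisms.ClosedImmersion
import Mathlib.RingTheory.Jacobson.Ring

/-!
# Finite points of a scheme lifting to a gerbe
-/

universe u

open CategoryTheory CategoryTheory.Limits AlgebraicGeometry Opposite TopologicalSpace

set_option backward.isDefEq.respectTransparency false
set_option backward.isDefEq.respectTransparency.types false
set_option linter.style.haveILetI false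
set_option linter.unusedSectionVars false

noncomputable section

namespace Groth.L23.TwDesc

open StMod
open Groth.L23.RelGen

/-- A quotient by a maximal ideal of a finite type algebra is finite over the base when the maximal
ideal lies over a maximal ideal. -/
theorem finite_quotient_maximal {R A : Type u} [CommRing R] [CommRing A] (f : R →+* A) (hf : f.FiniteType)
    (M : Ideal A) [hM : M.IsMaximal] [hm : (M.comap f).IsMaximal] :
    ((Ideal.Quotient.mk M).comp f).Finite := by
  letI := Ideal.Quotient.field (M.comap f)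
  letI := Ideal.Quotient.field M
  let g : R ⧸ M.comap f →+* A ⧸ M := Ideal.quotientMap M f le_rfl
  have hc : g.comp (Ideal.Quotient.mk (M.comap f)) = (Ideal.Quotient.mk M).comp f :=
    Ideal.quotientMap_comp_mk le_rfl
  have hg : g.FiniteType := by
    refine RingHom.FiniteType.of_comp_finiteType (f := Ideal.Quotient.mk (M.comap f)) ?_
    rw [hc]
    exact hf.comp_surjective Ideal.Quotient.mk_surjective
  letI := g.toAlgebra
  haveI : Algebra.FiniteType (R ⧸ M.comap f) (A ⧸ M) := hg
  have hgf : g.Finite := finite_of_finite_type_of_isJacobsonRing _ _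
  rw [← hc]
  exact hgf.comp (RingHom.Finite.of_surjective _ Ideal.Quotient.mk_surjective)

/-- A finite point over a closed point in the image of a morphism locally of finite type. -/
theorem exists_finite_point {W X : Scheme.{u}} (v : W ⟶ X) [LocallyOfFiniteType v] (x : X) (hx : IsClosed {x})
    (w : W) (hw : v w = x) : ∃ (K : Scheme.{u}) (k : K ⟶ W), IsAffine K ∧ Nonempty K ∧ IsFinite (k ≫ v) := by
  obtain ⟨U, hU, hxU, -⟩ := exists_isAffineOpen_mem_and_subset (x := x) (U := (⊤ : X.Opens)) trivial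
  obtain ⟨V, hV, hwV, hVU⟩ := exists_isAffineOpen_mem_and_subset (x := w) (U := v ⁻¹ᵁ U)
    (show v w ∈ U by rw [hw]; exact hxU)
  let f : Γ(X, U) →+* Γ(W, V) := (v.appLE U V hVU).hom
  have hf : f.FiniteType :=
    HasRingHomProperty.appLE (P := @LocallyOfFiniteType) v inferInstance ⟨U, hU⟩ ⟨V, hV⟩ hVU
  set m := hU.primeIdealOf ⟨x, hxU⟩ with hmdef
  have hmax : m.asIdeal.IsMaximal := by
    rw [← PrimeSpectrum.isClosed_singleton_iff_isMaximal]
    have e : ({m} : Set (Spec Γ(X, U))) = hU.fromSpec ⁻¹' {x} := Set.ext fun q => by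
      refine ⟨fun h => ?_, fun h => hU.fromSpec.isOpenEmbedding.injective (h.trans (hU.fromSpec_primeIdealOf ⟨x, hxU⟩).symm)⟩
      obtain rfl : q = m := h
      exact hU.fromSpec_primeIdealOf ⟨x, hxU⟩
    exact e ▸ hx.preimage hU.fromSpec.continuous
  set q := hV.primeIdealOf ⟨w, hwV⟩ with hqdef
  have key : ∀ p : Spec Γ(W, V), hU.fromSpec (Spec.map (v.appLE U V hVU) p) = v (hV.fromSpec p) := fun p => by
    rw [← Scheme.Hom.comp_apply, ← Scheme.Hom.comp_apply, hU.SpecMap_appLE_fromSpec v hV hVU]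
  have hq : Spec.map (v.appLE U V hVU) q = m := by
    refine hU.fromSpec.isOpenEmbedding.injective ?_
    rw [key, hqdef, hV.fromSpec_primeIdealOf, hw, hmdef, hU.fromSpec_primeIdealOf]
  have hqm : q.asIdeal.comap f = m.asIdeal := congrArg PrimeSpectrum.asIdeal hq
  obtain ⟨M, hM, hle⟩ := Ideal.exists_le_maximal q.asIdeal q.isPrime.ne_top
  have hMm : M.comap f = m.asIdeal :=
    (hmax.eq_of_le (Ideal.comap_ne_top f hM.ne_top) (hqm ▸ Ideal.comap_mono hle)).symm
  haveI : (M.comap f).IsMaximal := hMm ▸ hmax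
  let B : CommRingCat.{u} := CommRingCat.of (Γ(W, V) ⧸ M)
  let π : Γ(W, V) ⟶ B := CommRingCat.ofHom (Ideal.Quotient.mk M)
  haveI : Nontrivial B := Ideal.Quotient.nontrivial_iff.2 hM.ne_top
  refine ⟨Spec B, Spec.map π ≫ hV.fromSpec, inferInstance,
    inferInstanceAs (Nonempty (PrimeSpectrum B)), ?_⟩
  have hfin : IsFinite (Spec.map (v.appLE U V hVU ≫ π)) :=
    (IsFinite.SpecMap_iff _).2 (finite_quotient_maximal f hf M)
  have hcomp : (Spec.map π ≫ hV.fromSpec) ≫ v = Spec.map (v.appLE U V hVU ≫ π) ≫ hU.fromSpec := by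
    rw [Category.assoc, ← hU.SpecMap_appLE_fromSpec v hV hVU, ← Category.assoc, ← Spec.map_comp]
  rw [hcomp]
  have hrange : ∀ p, (Spec.map (v.appLE U V hVU ≫ π) ≫ hU.fromSpec) p = x := fun p => by
    rw [Scheme.Hom.comp_apply]
    have h₁ : (Spec.map (v.appLE U V hVU ≫ π)) p = m := PrimeSpectrum.ext (by
      show Ideal.comap ((Ideal.Quotient.mk M).comp f) p.asIdeal = m.asIdeal
      rw [← Ideal.comap_comap, ← hMm]
      congr 1
      letI := Ideal.Quotient.field M
      have hbot : ∀ P : Ideal (Γ(W, V) ⧸ M), P.IsPrime → P = ⊥ := fun P hP =>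
        (Ideal.eq_bot_or_top P).resolve_right hP.ne_top
      rw [hbot p.asIdeal p.isPrime]
      exact Ideal.mk_ker)
    rw [h₁, hmdef, hU.fromSpec_primeIdealOf]
  let O : X.Opens := ⟨{x}ᶜ, hx.isOpen_compl⟩
  let ψ := Spec.map (v.appLE U V hVU ≫ π) ≫ hU.fromSpec
  refine IsZariskiLocalAtTarget.of_iSup_eq_top (P := @IsFinite) (fun b : Bool => if b then U else O) ?_ fun b => ?_
  · refine top_le_iff.1 fun y _ => Opens.mem_iSup.2 ?_
    by_cases hy : y = x
    · exact ⟨true, by subst hy; exact hxU⟩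
    · exact ⟨false, hy⟩
  · cases b
    · haveI : IsEmpty (ψ ⁻¹ᵁ O).toScheme := ⟨fun p => p.2 (hrange p.1)⟩
      exact inferInstanceAs (IsFinite (ψ ∣_ O))
    · haveI := hfin
      show IsFinite (ψ ∣_ U)
      have htop : ψ ⁻¹ᵁ U = ⊤ := top_le_iff.1 fun p _ => by
        show ψ p ∈ U
        rw [hrange]; exact hxU
      haveI : IsIso (ψ ⁻¹ᵁ U).ι := by rw [htop, ← Scheme.topIso_hom]; infer_instance
      have e : (ψ ∣_ U) ≫ hU.isoSpec.hom = (ψ ⁻¹ᵁ U).ι ≫ Spec.map (v.appLE U V hVU ≫ π) := by
        rw [← cancel_mono hU.fromSpec, Category.assoc, Category.assoc, IsAffineOpen.isoSpec_hom_fromSpec,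
          morphismRestrict_ι]
      rw [← MorphismProperty.cancel_right_of_respectsIso @IsFinite (ψ ∣_ U) hU.isoSpec.hom, e]
      infer_instance

end Groth.L23.TwDesc
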