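import Groth.Agent.L23.TwDesc.Twist.LineProps
import Groth.Agent.L23.TwDesc.Twist.Point
import Groth.Agent.L23.TwDesc.Gerbe.Band
import Groth.Agent.L23.RelGen.Push
import Groth.Agent.L23.RelGen.Cast
import Groth.Agent.L07.PrinParts.Mod
import Groth.Agent.L15.TwLocal.Basic

/-!
# A nonzero twisted module of finite type on a gerbe over a Noetherian scheme
-/

universe u

open CategoryTheory CategoryTheory.Limits AlgebraicGeometry Opposite TopologicalSpace

set_option backward.isDefEq.respectTransparency false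
set_option backward.isDefEq.respectTransparency.types false
set_option linter.style.haveILetI false
set_option linter.unusedSectionVars false
set_option linter.unusedVariables false

noncomputable section

namespace Groth.L23.TwDesc

open StMod
open Groth.L23.RelGen
open Groth.L17.BC.PullSec (app_rs)

variable {S : Scheme.{u}}

/-- Twistedness may be tested on global sections over affine objects. -/
theorem isTwisted_of_affine {𝒳 : AlgSt.Cat S} (h : FibCat.IsFibGrpd 𝒳.p) (F : QCoh 𝒳) {A : (Over S)ᵒᵖ ⥤ GrpCat.{u}}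
    (ι : TwSh.BandHom 𝒳 A) (χ : A ⟶ TwSh.GmPsh S)
    (hF : ∀ (y : 𝒳.obj), IsAffine (sch 𝒳 y) → ∀ (a : A.obj (op (𝒳.p.obj y))) (m : Sec F.obj y),
      F.obj.mapTop (ι.hom y a).hom.1 m = (scal χ y a).val • m) : TwSh.IsTwisted F.obj ι χ 1 := by
  rw [TwSh.isTwisted_iff_inert_eq]
  intro x a
  refine Groth.L16.AffineBC.hom_ext_affine _ _ fun U hU s => ?_
  obtain ⟨y, r, hi, hr, ha⟩ := exists_restrict h x U
  haveI := hi
  obtain ⟨e, hb⟩ := resTo_bijective F.property.1 r hr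
  refine hb.1 ?_
  rw [TwSh.scalarEnd_app_apply, resTo_smul]
  let a' : A.obj (op (𝒳.p.obj y)) := A.map (𝒳.p.map r).op a
  have h₁ := Groth.L15.TwLocal.map_inert_app F.obj r (ι.hom x a) (ι.hom y a') (ι.natural r a) U s
  rw [resTo_apply, h₁, ← app_rs (TwSh.inert F.obj y (ι.hom y a')) e, TwSh.inert_app_top, hF y (ha hU) a']
  refine congrArg (fun t : Fn y => t • resTo F.obj r e s) ?_
  show (scal χ y (A.map (𝒳.p.map r).op a)).val = _
  rw [scal_map]
  show (bmap 𝒳 r).appTop _ = ((sch 𝒳 x).presheaf.map (homOfLE le_top).op ≫ (bmap 𝒳 r).appLE U ⊤ e) _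
  rw [Scheme.Hom.map_appLE, show (bmap 𝒳 r).appTop = (bmap 𝒳 r).appLE ⊤ ⊤ le_top from
    Scheme.Hom.app_eq_appLE (bmap 𝒳 r) (U := ⊤)]
  rfl

variable (X : Over S)

/-- The final object of the category of a scheme. -/
def topObj : (AlgSt.ofSch X).obj := ⟨X, ⟨𝟙 X⟩⟩

/-- The morphism to the final object. -/
def toTop (η : (AlgSt.ofSch X).obj) : η ⟶ topObj X :=
  ⟨η.sec.down, congrArg ULift.up (Category.comp_id η.sec.down)⟩

theorem toTop_unique {η : (AlgSt.ofSch X).obj} (g g' : η ⟶ topObj X) : g = g' := by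
  have e : ∀ k : η ⟶ topObj X, k.hom = η.sec.down := fun k =>
    ((Category.comp_id k.hom).symm.trans (congrArg ULift.down k.map_sec))
  exact Stk.EltObj.Hom.ext ((e g).trans (e g').symm)

variable {X} {𝒳 : AlgSt.Cat S} (π : 𝒳 ⥤ᵇ AlgSt.ofSch X)

/-- A gerbe as a category over the final object. -/
def toFibTop : 𝒳 ⥤ᵇ fibCat π (topObj X) where
  toFunctor :=
    { obj := fun x => CostructuredArrow.mk (toTop X (π.obj x))
      map := fun {x' x} φ => CostructuredArrow.homMk φ (toTop_unique X _ _)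
      map_id := fun x => CostructuredArrow.hom_ext _ _ rfl
      map_comp := fun f g => CostructuredArrow.hom_ext _ _ rfl }
  w := rfl

variable (h𝒳 : FibCat.IsFibGrpd 𝒳.p) {A : (Over S)ᵒᵖ ⥤ GrpCat.{u}} (ι : TwSh.BandHom 𝒳 A)
  (χ : A ⟶ TwSh.GmPsh S) (hπ : TwSh.IsBandedGerbe (QuotSh.J Scheme.fppfPrecoverage S) π ι)

include h𝒳 hπ in
theorem exists_finite_lift [IsNoetherian X.left] [Nonempty X.left] :
    ∃ (z : 𝒳.obj) (β : π.obj z ⟶ topObj X), IsAffine (sch 𝒳 z) ∧ Nonempty (sch 𝒳 z) ∧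
      IsFinite (bmap (AlgSt.ofSch X) β) := by
  obtain ⟨x, -, hx⟩ := (isClosed_univ : IsClosed (Set.univ : Set X.left)).exists_closed_singleton Set.univ_nonempty
  obtain ⟨R, hR, hlift⟩ := hπ.1.1 (topObj X)
  obtain ⟨W, v, hv, hfl, hfp, hs⟩ :=
    Groth.L09.Gerbe.exists_cover_of_mem_J (U := (AlgSt.ofSch X).p.obj (topObj X)) hR
  obtain ⟨y, g, hg⟩ := hlift (v x) (hv x)
  obtain ⟨e, he⟩ := bmap_of_lift (v x) g hg
  haveI := hfp x
  obtain ⟨w, hw⟩ := hs x
  haveI : LocallyOfFiniteType (bmap (AlgSt.ofSch X) g) := by rw [he]; infer_instance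
  obtain ⟨K, k, hK, hne, hfin⟩ := exists_finite_point (bmap (AlgSt.ofSch X) g) x hx (eqToHom e.symm w) (by
    rw [he, ← Scheme.Hom.comp_apply, eqToHom_trans_assoc, eqToHom_refl, Category.id_comp]
    exact hw)
  let k' : K ⟶ sch 𝒳 y := k ≫ eqToHom (sch_obj_eq π y)
  obtain ⟨z, φ, ez, hφ⟩ := exists_lift h𝒳 (x := y) (V := Over.mk (k' ≫ (𝒳.p.obj y).hom)) (Over.homMk k' rfl)
  have hb : bmap 𝒳 φ = eqToHom (congrArg Comma.left ez) ≫ k' := by
    have := congrArg (fun t => t.left) hφ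
    simp only [Over.comp_left, Over.eqToHom_left] at this
    exact this
  haveI := hK
  haveI := hfin
  refine ⟨z, π.map φ ≫ g, IsAffine.of_isIso (eqToHom (congrArg Comma.left ez) : sch 𝒳 z ⟶ K), ?_, ?_⟩
  · obtain ⟨t⟩ := hne
    exact ⟨(eqToHom (congrArg Comma.left ez).symm : K ⟶ sch 𝒳 z) t⟩
  · rw [bmap_comp, bmap_map, hb]
    simp only [k', Category.assoc, eqToHom_trans_assoc, eqToHom_refl, Category.id_comp]
    infer_instance

variable {z : 𝒳.obj} (β : π.obj z ⟶ topObj X) (D : BcData π β) (L : QCoh (fibCat π (π.obj z)))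

/-- The direct image of a module over the lift. -/
def pushLine [IsAffineHom (bmap (AlgSt.ofSch X) β)] : QCoh 𝒳 :=
  (comapQ (toFibTop π)).obj ⟨D.push L.obj, D.isQCoh_push L.property.1 L.property.2⟩

/-- The band acts by the character. -/
def BandActs (L : QCoh (fibCat π (π.obj z))) : Prop :=
  ∀ (q : (fibCat π (π.obj z)).obj), IsAffine (sch (fibCat π (π.obj z)) q) →
    ∀ (a : A.obj (op (𝒳.p.obj q.left))) (m : Sec L.obj q),
      L.obj.mapTop (bandFib ι hπ q a) m = (show Fn q from (scal χ q.left a).val) • m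

theorem ext_band {x : 𝒳.obj} (a : A.obj (op (𝒳.p.obj x))) :
    D.ext ((toFibTop π).map (ι.hom x a).hom.1) = bandFib ι hπ (D.pt ((toFibTop π).obj x))
      (A.map (𝒳.p.map (show (D.pt ((toFibTop π).obj x)).left ⟶ x from (D.q ((toFibTop π).obj x)).left)).op a) :=
  D.uniq _ _ ((D.ext_q _).trans (CostructuredArrow.hom_ext _ _
    (ι.natural (show (D.pt ((toFibTop π).obj x)).left ⟶ x from (D.q ((toFibTop π).obj x)).left) a).symm))

theorem mapTop_push_band [IsAffineHom (bmap (AlgSt.ofSch X) β)] (hL : BandActs π ι χ hπ L) {x : 𝒳.obj}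
    (hx : IsAffine (sch 𝒳 x)) (a : A.obj (op (𝒳.p.obj x))) (m : Sec (pushLine π β D L).obj x) :
    (pushLine π β D L).obj.mapTop (ι.hom x a).hom.1 m = (scal χ x a).val • m := by
  obtain ⟨m', rfl⟩ := (secC (toFibTop π) (D.push L.obj) x).surjective m
  refine (secC_mapTop (toFibTop π) _ (ι.hom x a).hom.1 m').trans ?_
  refine (congrArg (secC (toFibTop π) (D.push L.obj) x) ?_).trans
    (secC_smul (toFibTop π) _ x (scal χ x a).val m')
  haveI := D.isAffineHom_qb ((toFibTop π).obj x)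
  haveI : IsAffine (sch (fibCat π (topObj X)) ((toFibTop π).obj x)) := hx
  haveI : IsAffine (sch (fibCat π (π.obj z)) (D.pt ((toFibTop π).obj x))) :=
    isAffine_of_isAffineHom (D.qb ((toFibTop π).obj x))
  have h₁ := D.mapTop_push L.obj ((toFibTop π).map (ι.hom x a).hom.1) m'
  have h₂ := hL (D.pt ((toFibTop π).obj x)) this
    (A.map (𝒳.p.map (show (D.pt ((toFibTop π).obj x)).left ⟶ x from (D.q ((toFibTop π).obj x)).left)).op a) m'
  rw [← ext_band π ι hπ β D a] at h₂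
  refine (h₁.trans h₂).trans ?_
  refine congrArg (fun t : Fn (D.pt ((toFibTop π).obj x)) =>
    t • (show Sec L.obj (D.pt ((toFibTop π).obj x)) from m')) ?_
  exact (scal_map χ (show (D.pt ((toFibTop π).obj x)).left ⟶ x from (D.q ((toFibTop π).obj x)).left) a).trans rfl

theorem isFinType_pushLine [hβ : IsFinite (bmap (AlgSt.ofSch X) β)] (hL : ∀ q, Coh.IsCoh (L.obj.obj q)) :
    (pushLine π β D L).obj.IsFinType := by
  intro x
  haveI : IsFinite (D.qb ((toFibTop π).obj x)) :=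
    MorphismProperty.of_isPullback (D.isPullback _).flip hβ
  exact (Groth.L07.PrinParts.isCoh_pushforward_finite (D.qb ((toFibTop π).obj x)) (hL _)).2

theorem not_isZero_pushLine [IsAffineHom (bmap (AlgSt.ofSch X) β)] (hz : IsAffine (sch 𝒳 z))
    (j₀ : (fibCat π (π.obj z)).obj) (e : j₀.left ⟶ z) (hj : IsAffine (sch (fibCat π (π.obj z)) j₀))
    (n : Sec L.obj j₀) (hn : n ≠ 0) : ¬ Limits.IsZero (pushLine π β D L) := by
  intro h0
  let zt := (toFibTop π).obj z
  have hall : ∀ m : Sec L.obj (D.pt zt), m = 0 := fun m => by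
    have h₁ := congrArg InducedCategory.Hom.hom (h0.eq_of_src (𝟙 (pushLine π β D L)) 0)
    exact (secC (toFibTop π) (D.push L.obj) z).injective
      ((congrArg (fun t : (pushLine π β D L).obj ⟶ (pushLine π β D L).obj =>
        (t.app z).app ⊤ (secC (toFibTop π) (D.push L.obj) z m)) h₁).trans
        ((show (0 : Sec (pushLine π β D L).obj z) = _ from (map_zero _).symm)))
  let s : (fibComp π β).obj j₀ ⟶ zt := CostructuredArrow.homMk e (toTop_unique X _ _)
  haveI := D.isAffineHom_qb zt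
  haveI : IsAffine (sch (fibCat π (topObj X)) zt) := hz
  haveI := hj
  haveI : IsAffine (sch (fibCat π (π.obj z)) (D.pt zt)) := isAffine_of_isAffineHom (D.qb zt)
  refine hn (induction_topMap L.property.1 L.property.2 (D.lift s) n (p := fun n => n = 0) rfl ?_ ?_)
  · intro r m
    rw [hall m, Mod.mapTop_zero, smul_zero]
  · intro a b ha hb
    rw [ha, hb, add_zero]

include h𝒳 hπ in
/-- A gerbe over a nonempty Noetherian scheme has a nonzero twisted module of finite type. -/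
theorem exists_twisted [IsNoetherian X.left] [Nonempty X.left] :
    ∃ F : QCoh 𝒳, TwSh.IsTwisted F.obj ι χ 1 ∧ F.obj.IsFinType ∧ ¬ Limits.IsZero F := by
  obtain ⟨z, β, hz, hne, hfin⟩ := exists_finite_lift π h𝒳 ι hπ
  have h𝒴 : FibCat.IsFibGrpd (AlgSt.ofSch X).p := Stk.isFibGrpd_ofPsh _
  haveI := hfin
  obtain ⟨D⟩ := nonempty_bcData h𝒳 h𝒴 π β
  let L : QCoh (fibCat π (π.obj z)) := (lineDatum (z := z) ι h𝒳 h𝒴 hπ χ hπ.1.2).toQCoh
  have hband : BandActs π ι χ hπ L := fun q hq a m => mapTop_line_band ι h𝒳 h𝒴 hπ χ hπ.1.2 hq a m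
  have hfinL : ∀ q, IsAffine (sch (fibCat π (π.obj z)) q) → Module.Finite (Fn q) (Sec L.obj q) :=
    fun q hq => finite_line ι h𝒳 h𝒴 hπ χ hπ.1.2 hq
  obtain ⟨n, hn⟩ := @exists_ne _ (nontrivial_line ι h𝒳 h𝒴 hπ χ hπ.1.2 hz hne) 0
  exact ⟨pushLine π β D L, isTwisted_of_affine h𝒳 _ ι χ fun y hy a m => mapTop_push_band π ι χ hπ β D L hband hy a m,
    isFinType_pushLine π β D L (isFT_of_affine (isFibGrpd_fibCat h𝒳 π (π.obj z)) L hfinL),
    not_isZero_pushLine π β D L hz (⟨z, 𝟙 z, hz⟩ : ZPt z).pt (𝟙 z) hz n hn⟩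

end Groth.L23.TwDesc
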